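import Mathlib

/-!
Elements of orders 6, 10, 14, 15 in the symplectic group of dimension six over `ZMod 3`.
-/

set_option autoImplicit false
set_option linter.style.longLine false

namespace CfsgLib.PrimeGraphSp63

abbrev Mat63 := Matrix (Fin 3 ⊕ Fin 3) (Fin 3 ⊕ Fin 3) (ZMod 3)

/-- an element of projective order 6 -/
def el6 : Mat63 := Matrix.fromBlocks !![1, 2, 0; 0, 2, 0; 2, 0, 2] !![0, 0, 0; 0, 0, 0; 0, 0, 1] !![2, 0, 1; 2, 2, 0; 1, 1, 2] !![1, 0, 1; 2, 2, 1; 0, 0, 0]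

theorem el6_mem : el6 ∈ Matrix.symplecticGroup (Fin 3) (ZMod 3) := by
  rw [SymplecticGroup.mem_iff]
  decide +kernel

theorem el6_pow : (el6 ^ 6 = 1 ∨ el6 ^ 6 = -1) ∧ el6 ^ 3 ≠ 1 ∧ el6 ^ 3 ≠ -1 ∧ el6 ^ 2 ≠ 1 ∧ el6 ^ 2 ≠ -1 := by
  have e2 : el6 ^ 2 = (Matrix.fromBlocks !![1, 0, 0; 0, 1, 0; 1, 2, 0] !![0, 0, 0; 0, 0, 0; 0, 0, 2] !![1, 2, 2; 2, 1, 1; 2, 1, 1] !![1, 0, 2; 0, 1, 1; 0, 0, 2] : Mat63) := by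
    refine (pow_add _ 1 1).trans ?_
    rw [pow_one]
    decide +kernel
  have e3 : el6 ^ 3 = (Matrix.fromBlocks !![1, 2, 0; 0, 2, 0; 0, 2, 1] !![0, 0, 0; 0, 0, 0; 0, 0, 0] !![0, 2, 0; 1, 0, 1; 0, 2, 0] !![1, 0, 0; 2, 2, 2; 0, 0, 1] : Mat63) := by
    refine (pow_add _ 1 2).trans ?_
    rw [pow_one, e2]
    decide +kernel
  have e6 : el6 ^ 6 = (1 : Mat63) := by
    refine (pow_add _ 3 3).trans ?_
    rw [e3]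
    decide +kernel
  refine ⟨Or.inl e6, ?_, ?_, ?_, ?_⟩
  · rw [e3]; decide +kernel
  · rw [e3]; decide +kernel
  · rw [e2]; decide +kernel
  · rw [e2]; decide +kernel

/-- an element of projective order 10 -/
def el10 : Mat63 := Matrix.fromBlocks !![1, 2, 0; 2, 2, 1; 0, 0, 2] !![0, 1, 2; 1, 0, 2; 1, 0, 2] !![1, 0, 1; 0, 1, 2; 1, 1, 1] !![0, 0, 0; 1, 2, 2; 1, 1, 2]

theorem el10_mem : el10 ∈ Matrix.symplecticGroup (Fin 3) (ZMod 3) := by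
  rw [SymplecticGroup.mem_iff]
  decide +kernel

theorem el10_pow : (el10 ^ 10 = 1 ∨ el10 ^ 10 = -1) ∧ el10 ^ 5 ≠ 1 ∧ el10 ^ 5 ≠ -1 ∧ el10 ^ 2 ≠ 1 ∧ el10 ^ 2 ≠ -1 := by
  have e2 : el10 ^ 2 = (Matrix.fromBlocks !![1, 0, 0; 0, 1, 1; 0, 2, 1] !![2, 2, 0; 2, 1, 2; 1, 2, 2] !![1, 2, 2; 2, 0, 0; 0, 1, 2] !![1, 1, 1; 1, 0, 2; 2, 2, 0] : Mat63) := by
    refine (pow_add _ 1 1).trans ?_
    rw [pow_one]
    decide +kernel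
  have e3 : el10 ^ 3 = (Matrix.fromBlocks !![0, 1, 0; 0, 2, 0; 1, 2, 2] !![2, 2, 0; 2, 1, 1; 1, 0, 2] !![1, 2, 1; 2, 0, 0; 1, 1, 2] !![0, 1, 2; 2, 1, 2; 2, 1, 1] : Mat63) := by
    refine (pow_add _ 1 2).trans ?_
    rw [pow_one, e2]
    decide +kernel
  have e5 : el10 ^ 5 = (Matrix.fromBlocks !![0, 2, 2; 1, 1, 2; 2, 1, 1] !![0, 0, 2; 0, 0, 2; 1, 1, 0] !![0, 0, 1; 0, 0, 2; 2, 1, 0] !![0, 1, 2; 2, 1, 1; 2, 2, 1] : Mat63) := by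
    refine (pow_add _ 2 3).trans ?_
    rw [e2, e3]
    decide +kernel
  have e10 : el10 ^ 10 = (1 : Mat63) := by
    refine (pow_add _ 5 5).trans ?_
    rw [e5]
    decide +kernel
  refine ⟨Or.inl e10, ?_, ?_, ?_, ?_⟩
  · rw [e5]; decide +kernel
  · rw [e5]; decide +kernel
  · rw [e2]; decide +kernel
  · rw [e2]; decide +kernel

/-- an element of projective order 14 -/
def el14 : Mat63 := Matrix.fromBlocks !![1, 2, 2; 1, 2, 1; 0, 2, 1] !![1, 0, 2; 2, 0, 2; 0, 1, 0] !![0, 2, 2; 2, 0, 2; 2, 0, 1] !![2, 2, 1; 0, 0, 0; 2, 0, 1]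

theorem el14_mem : el14 ∈ Matrix.symplecticGroup (Fin 3) (ZMod 3) := by
  rw [SymplecticGroup.mem_iff]
  decide +kernel

theorem el14_pow : (el14 ^ 14 = 1 ∨ el14 ^ 14 = -1) ∧ el14 ^ 7 ≠ 1 ∧ el14 ^ 7 ≠ -1 ∧ el14 ^ 2 ≠ 1 ∧ el14 ^ 2 ≠ -1 := by
  have e2 : el14 ^ 2 = (Matrix.fromBlocks !![1, 0, 1; 1, 0, 2; 1, 0, 2] !![2, 1, 0; 1, 2, 1; 1, 1, 1] !![2, 0, 1; 2, 2, 0; 1, 1, 1] !![1, 0, 1; 2, 2, 1; 2, 2, 1] : Mat63) := by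
    refine (pow_add _ 1 1).trans ?_
    rw [pow_one]
    decide +kernel
  have e3 : el14 ^ 3 = (Matrix.fromBlocks !![0, 2, 0; 1, 2, 2; 2, 2, 0] !![2, 2, 1; 2, 1, 1; 2, 1, 1] !![1, 2, 2; 1, 0, 0; 2, 1, 1] !![0, 0, 0; 0, 1, 2; 0, 2, 1] : Mat63) := by
    refine (pow_add _ 1 2).trans ?_
    rw [pow_one, e2]
    decide +kernel
  have e4 : el14 ^ 4 = (Matrix.fromBlocks !![2, 2, 2; 1, 2, 1; 2, 0, 1] !![1, 1, 1; 2, 0, 0; 0, 1, 2] !![0, 1, 0; 1, 2, 0; 0, 2, 2] !![2, 2, 0; 2, 0, 1; 0, 1, 1] : Mat63) := by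
    refine (pow_add _ 2 2).trans ?_
    rw [e2]
    decide +kernel
  have e7 : el14 ^ 7 = (Matrix.fromBlocks !![1, 0, 1; 0, 0, 2; 1, 2, 2] !![0, 2, 0; 2, 2, 1; 0, 1, 1] !![2, 0, 0; 0, 2, 0; 0, 0, 2] !![2, 0, 2; 0, 0, 1; 2, 1, 1] : Mat63) := by
    refine (pow_add _ 3 4).trans ?_
    rw [e3, e4]
    decide +kernel
  have e14 : el14 ^ 14 = (-1 : Mat63) := by
    refine (pow_add _ 7 7).trans ?_
    rw [e7]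
    decide +kernel
  refine ⟨Or.inr e14, ?_, ?_, ?_, ?_⟩
  · rw [e7]; decide +kernel
  · rw [e7]; decide +kernel
  · rw [e2]; decide +kernel
  · rw [e2]; decide +kernel

/-- an element of projective order 15 -/
def el15 : Mat63 := Matrix.fromBlocks !![2, 1, 1; 2, 0, 2; 0, 0, 2] !![2, 1, 1; 2, 2, 0; 2, 0, 1] !![1, 1, 0; 1, 1, 2; 2, 0, 1] !![1, 1, 1; 2, 2, 2; 2, 1, 0]

theorem el15_mem : el15 ∈ Matrix.symplecticGroup (Fin 3) (ZMod 3) := by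
  rw [SymplecticGroup.mem_iff]
  decide +kernel

theorem el15_pow : (el15 ^ 15 = 1 ∨ el15 ^ 15 = -1) ∧ el15 ^ 5 ≠ 1 ∧ el15 ^ 5 ≠ -1 ∧ el15 ^ 3 ≠ 1 ∧ el15 ^ 3 ≠ -1 := by
  have e2 : el15 ^ 2 = (Matrix.fromBlocks !![2, 2, 0; 2, 0, 1; 1, 2, 2] !![2, 0, 1; 2, 2, 1; 2, 0, 1] !![2, 0, 0; 0, 2, 1; 1, 2, 0] !![0, 1, 1; 0, 2, 0; 1, 0, 1] : Mat63) := by
    refine (pow_add _ 1 1).trans ?_
    rw [pow_one]
    decide +kernel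
  have e3 : el15 ^ 3 = (Matrix.fromBlocks !![0, 1, 1; 1, 0, 0; 1, 0, 1] !![0, 0, 1; 2, 0, 0; 2, 2, 2] !![1, 0, 2; 0, 2, 1; 0, 2, 0] !![2, 2, 1; 1, 2, 2; 0, 1, 2] : Mat63) := by
    refine (pow_add _ 1 2).trans ?_
    rw [pow_one, e2]
    decide +kernel
  have e4 : el15 ^ 4 = (Matrix.fromBlocks !![1, 0, 2; 1, 0, 1; 1, 2, 0] !![0, 0, 1; 1, 0, 0; 2, 0, 2] !![2, 2, 1; 2, 0, 0; 0, 1, 2] !![2, 2, 0; 0, 2, 0; 1, 2, 2] : Mat63) := by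
    refine (pow_add _ 2 2).trans ?_
    rw [e2]
    decide +kernel
  have e5 : el15 ^ 5 = (Matrix.fromBlocks !![1, 1, 0; 0, 2, 0; 0, 0, 1] !![2, 2, 0; 2, 2, 0; 0, 0, 0] !![0, 0, 0; 0, 1, 0; 0, 0, 0] !![1, 0, 0; 2, 0, 0; 0, 0, 1] : Mat63) := by
    refine (pow_add _ 2 3).trans ?_
    rw [e2, e3]
    decide +kernel
  have e7 : el15 ^ 7 = (Matrix.fromBlocks !![2, 0, 0; 2, 1, 1; 1, 2, 2] !![1, 2, 1; 1, 1, 1; 2, 0, 1] !![2, 0, 0; 0, 0, 1; 1, 2, 0] !![0, 1, 1; 2, 1, 0; 1, 0, 1] : Mat63) := by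
    refine (pow_add _ 3 4).trans ?_
    rw [e3, e4]
    decide +kernel
  have e8 : el15 ^ 8 = (Matrix.fromBlocks !![0, 2, 1; 1, 1, 0; 1, 0, 1] !![2, 2, 1; 1, 2, 0; 2, 2, 2] !![1, 0, 2; 0, 0, 1; 0, 2, 0] !![2, 2, 1; 0, 1, 2; 0, 1, 2] : Mat63) := by
    refine (pow_add _ 4 4).trans ?_
    rw [e4]
    decide +kernel
  have e15 : el15 ^ 15 = (1 : Mat63) := by
    refine (pow_add _ 7 8).trans ?_
    rw [e7, e8]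
    decide +kernel
  refine ⟨Or.inl e15, ?_, ?_, ?_, ?_⟩
  · rw [e5]; decide +kernel
  · rw [e5]; decide +kernel
  · rw [e3]; decide +kernel
  · rw [e3]; decide +kernel

end CfsgLib.PrimeGraphSp63
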